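import Cfsg.Agent.Solv.MinNormal
import Cfsg.Agent.Cor.OddSol
import Cfsg.Agent.Local.KleinDich
import Cfsg.Agent.CITCor.NonSimple

/-! Prime-graph consequences of the theorem on coprime action with fixed points of odd order. -/

set_option autoImplicit false

namespace Cfsg.Lib.P2

open Subgroup Cfsg.Lib.Solv

universe u

/-- Coprime action with fixed points of odd order forces solvability. -/
def CO : Prop :=
  ∀ (Γ : Type u) [Group Γ] [Finite Γ] (G A : Subgroup Γ), A ≤ normalizer (G : Set Γ) →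
    (Nat.card A).Coprime (Nat.card G) →
    (∀ x ∈ G, x ∈ centralizer (A : Set Γ) → x * x = 1 → x = 1) → Group.IsSolvable G

theorem CO_eq_1' : type_of% @CO.eq_1 := @CO.eq_1

variable {G : Type u} [Group G]

theorem exists_orderOf_mem [Finite G] {H : Subgroup G} {p : ℕ} (hp : p.Prime)
    (h : p ∣ Nat.card H) : ∃ a ∈ H, orderOf a = p := by
  have := Fact.mk hp
  obtain ⟨a, ha⟩ := exists_prime_orderOf_dvd_card' (G := H) p h
  exact ⟨a, a.2, by rw [orderOf_coe, ha]⟩

theorem orderOf_mul_primes {a b : G} {p q : ℕ} (hp : p.Prime) (hq : q.Prime) (hpq : p ≠ q)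
    (ha : orderOf a = p) (hb : orderOf b = q) (h : a * b = b * a) : orderOf (a * b) = p * q := by
  rw [← ha, ← hb]
  exact Commute.orderOf_mul_eq_mul_orderOf_of_coprime h
    (by rw [ha, hb]; exact (Nat.coprime_primes hp hq).mpr hpq)

theorem exists_invol [Finite G] {H : Subgroup G} (h : ¬ Group.IsSolvable H) :
    ∃ t ∈ H, orderOf t = 2 :=
  CITCor.exists_invol_of_even fun ho => h (FT.odd_order_solvable ho)

/-- An element of prime order acting coprimely on a non-solvable group centralises an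
involution. -/
theorem exists_invol_comm (hco : CO.{u}) [Finite G] {N : Subgroup G} [N.Normal]
    (hN : ¬ Group.IsSolvable N) {a : G} {r : ℕ} (hr : r.Prime) (ha : orderOf a = r)
    (hrN : ¬ r ∣ Nat.card N) : ∃ t ∈ N, orderOf t = 2 ∧ t * a = a * t := by
  by_contra hcon
  push Not at hcon
  refine hN (hco G N (zpowers a) le_normalizer_of_normal ?_ fun x hx hxc hx2 => ?_)
  · rw [Nat.card_zpowers, ha]
    exact (Nat.Prime.coprime_iff_not_dvd hr).mpr hrN
  · by_contra h1
    have := Fact.mk Nat.prime_two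
    exact hcon x hx (orderOf_eq_prime (by rw [pow_two, hx2]) h1) (hxc a (mem_zpowers a)).symm

/-- A non-solvable minimal normal subgroup that is not simple has two commuting non-solvable
factors. -/
theorem split [Finite G] {N : Subgroup G} (hN : IsMinNormal N) (hs : ¬ Group.IsSolvable N)
    (hn : ¬ IsSimpleGroup N) : ∃ M M' : Subgroup G, M ≤ N ∧ M' ≤ N ∧ M ⊓ M' = ⊥ ∧
      (∀ a ∈ M, ∀ b ∈ M', a * b = b * a) ∧ ¬ Group.IsSolvable M ∧ ¬ Group.IsSolvable M' ∧
      (∀ p : ℕ, p.Prime → p ∣ Nat.card N → p ∣ Nat.card M ∧ p ∣ Nat.card M') := by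
  have := hN.normal
  have := (nontrivial_iff_ne_bot N).mpr hN.ne_bot
  obtain ⟨K, hK, hK1, hK2⟩ : ∃ K : Subgroup N, K.Normal ∧ K ≠ ⊥ ∧ K ≠ ⊤ := by
    by_contra h
    push Not at h
    exact hn ⟨fun K hK => by
      by_cases h1 : K = ⊥
      · exact Or.inl h1
      · exact Or.inr (h K hK h1)⟩
  obtain ⟨M, hM, hMK⟩ := exists_isMinNormal_le K hK1
  have := hM.normal
  have hMs : ¬ Group.IsSolvable M := fun h => by
    obtain ⟨p, hp, -, -, hP⟩ := hM.elementary
    have := Fact.mk hp
    have h5 : (pCore p N).map N.subtype = N :=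
      (hN.min _ (normal_map_subtype_of_char _) (map_subtype_le _)).resolve_left fun e =>
        hM.ne_bot (le_bot_iff.mp ((le_pCore hM.normal hP).trans
          ((map_eq_bot_iff_of_injective _ N.subtype_injective).mp e).le))
    have h6 := (isPGroup_map_pCore p N)
    rw [h5] at h6
    have := h6.isNilpotent
    exact hs inferInstance
  have hMp : ∀ p : ℕ, p.Prime → p ∣ Nat.card N → p ∣ Nat.card M := fun p hp hpN => by
    by_contra h
    have := Fact.mk hp
    rcases hN.eq_bot_or_top_of_characteristic (pPrimeCore p N) with e | e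
    · exact hM.ne_bot (le_bot_iff.mp (e ▸ le_pPrimeCore hM.normal
        ((Nat.Prime.coprime_iff_not_dvd hp).mpr h).symm))
    · exact (Nat.Prime.coprime_iff_not_dvd hp).mp (pPrimeCore_eq_top_iff.mp e).symm hpN
  by_cases h1 : ∀ g : G, M.map (MulAut.conjNormal g : MulAut N).toMonoidHom = M
  · have h2 : (M.map N.subtype).Normal := ⟨by
      rintro _ ⟨m, hm, rfl⟩ g
      exact ⟨MulAut.conjNormal g m, h1 g ▸ mem_map_of_mem _ hm, rfl⟩⟩
    rcases hN.min _ h2 (map_subtype_le M) with e | e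
    · exact absurd ((map_eq_bot_iff_of_injective M N.subtype_injective).mp e) hM.ne_bot
    · refine absurd (eq_top_iff.mpr fun n _ => hMK ?_) hK2
      obtain ⟨m, hm, e⟩ : (n : G) ∈ M.map N.subtype := e.symm ▸ n.2
      exact (Subtype.ext e : m = n) ▸ hm
  push Not at h1
  obtain ⟨g, hg⟩ := h1
  set M' := M.map (MulAut.conjNormal g : MulAut N).toMonoidHom with hM'
  have : M'.Normal := hM.normal.map _ (MulAut.conjNormal g).surjective
  have hc : Nat.card M' = Nat.card M := card_map_of_injective (MulAut.conjNormal g).injective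
  have h2 : M ⊓ M' = ⊥ := (hM.inf_eq_bot_or_le M').resolve_right fun hle =>
    hg (eq_of_le_of_card_ge hle hc.le).symm
  have e1 := M.equivMapOfInjective N.subtype N.subtype_injective
  have e2 := M'.equivMapOfInjective N.subtype N.subtype_injective
  have e3 := M.equivMapOfInjective (MulAut.conjNormal g : MulAut N).toMonoidHom
    (MulAut.conjNormal g).injective
  refine ⟨M.map N.subtype, M'.map N.subtype, map_subtype_le _, map_subtype_le _, ?_, ?_, ?_, ?_,
    fun p hp h => ?_⟩
  · rw [← map_inf _ _ _ N.subtype_injective, h2, Subgroup.map_bot]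
  · rintro _ ⟨a, ha, rfl⟩ _ ⟨b, hb, rfl⟩
    exact congrArg Subtype.val
      (commute_of_normal_of_disjoint M M' inferInstance inferInstance (disjoint_iff.mpr h2) a b
        ha hb)
  · exact fun h => hMs (Group.isSolvable_of_isSolvable_injective (f := e1.toMonoidHom) e1.injective)
  · exact fun h => hMs (Group.isSolvable_of_isSolvable_injective (f := (e3.trans e2).toMonoidHom)
      (e3.trans e2).injective)
  · rw [card_map_of_injective N.subtype_injective, card_map_of_injective N.subtype_injective, hc]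
    exact ⟨hMp p hp h, hMp p hp h⟩

theorem eq_of_zpowers [Finite G] {a x y : G} (hx : x ∈ zpowers a) (hy : y ∈ zpowers a)
    (h1 : orderOf x = 2) (h2 : orderOf y = 2) : x = y := by
  classical
  have := Fintype.ofFinite (zpowers a)
  have h := IsCyclic.card_orderOf_eq_totient (α := zpowers a) (d := 2)
    (by rw [← h1, ← Nat.card_eq_fintype_card]; exact orderOf_dvd_natCard _ hx)
  rw [Nat.totient_two, Finset.card_eq_one] at h
  obtain ⟨c, hc⟩ := h
  have e1 : (⟨x, hx⟩ : zpowers a) ∈ ({c} : Finset (zpowers a)) := by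
    rw [← hc]; simpa using h1
  have e2 : (⟨y, hy⟩ : zpowers a) ∈ ({c} : Finset (zpowers a)) := by
    rw [← hc]; simpa using h2
  rw [Finset.mem_singleton] at e1 e2
  exact congrArg Subtype.val (e1.trans e2.symm)

/-- The image of a group without four-subgroups has no two commuting non-solvable factors. -/
theorem no_two_factors {K : Type u} [Group K] [Finite K] [Finite G] (f : K →* G)
    (hf : Function.Surjective f)
    (h4 : ∀ z e : K, orderOf z = 2 → orderOf e = 2 → e * z = z * e → e = z)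
    {M M' : Subgroup G} (hi : M ⊓ M' = ⊥) (hc : ∀ a ∈ M, ∀ b ∈ M', a * b = b * a)
    (hM : ¬ Group.IsSolvable M) (hM' : ¬ Group.IsSolvable M') : False := by
  have := Fact.mk Nat.prime_two
  obtain ⟨T1⟩ : Nonempty (Sylow 2 M) := inferInstance
  obtain ⟨T2⟩ : Nonempty (Sylow 2 M') := inferInstance
  have p1 : IsPGroup 2 ((T1 : Subgroup M).map M.subtype) := T1.isPGroup'.map _
  have p2 : IsPGroup 2 ((T2 : Subgroup M').map M'.subtype) := T2.isPGroup'.map _
  have p3 : IsPGroup 2 ((T1 : Subgroup M).map M.subtype ⊔ (T2 : Subgroup M').map M'.subtype :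
      Subgroup G) := by
    refine IsPGroup.to_sup_of_normal_right' p1 p2 fun a ha => ?_
    refine centralizer_le_normalizer _ fun b hb => ?_
    exact (hc a (map_subtype_le _ ha) b (map_subtype_le _ hb)).symm
  obtain ⟨S, hS⟩ := p3.exists_le_sylow
  obtain ⟨T, hT⟩ := Sylow.mapSurjective_surjective hf 2 S
  have hTS : (T : Subgroup K).map f = S := by rw [← hT]; rfl
  rcases Local.two_group_dichotomy T.isPGroup' with ⟨a, ha⟩ | ⟨z, e, hz, he, hez, hze, -⟩
  swap
  · exact hez (Subtype.ext (h4 z e (by rw [orderOf_coe, hz]) (by rw [orderOf_coe, he])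
      (congrArg Subtype.val (hze e))))
  have key : ∀ s ∈ (S : Subgroup G), ∀ t ∈ (S : Subgroup G), s ∉ zpowers (f a) →
      t ∉ zpowers (f a) → s * t ∈ zpowers (f a) := by
    rw [← hTS]
    rintro _ ⟨s, hs, rfl⟩ _ ⟨t, ht, rfl⟩ h1 h2
    have im : ∀ x : T, x ∈ zpowers a → f x ∈ zpowers (f a) := by
      rintro _ ⟨n, rfl⟩
      exact ⟨n, by simp⟩
    have := im _ (ha ⟨s, hs⟩ trivial ⟨t, ht⟩ trivial (fun h => h1 (im _ h)) fun h => h2 (im _ h))
    simpa using this
  have inv : ∀ (L : Subgroup G) (U : Sylow 2 L), ¬ Group.IsSolvable L →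
      (U : Subgroup L).map L.subtype ≤ S → ∃ i ∈ L, i ∈ zpowers (f a) ∧ orderOf i = 2 := by
    intro L U hL hU
    by_contra hcon
    push Not at hcon
    have h1 : ∀ u : U, (u : G) ∈ zpowers (f a) → u = 1 := fun u hu => by
      by_contra h1
      obtain ⟨k, hk⟩ := IsPGroup.iff_orderOf.mp U.isPGroup' u
      have hk0 : k ≠ 0 := by
        rintro rfl
        exact h1 (orderOf_eq_one_iff.mp hk)
      have h2 : orderOf (u ^ (orderOf u / 2)) = 2 :=
        orderOf_pow_orderOf_div (orderOf_pos u).ne' (hk ▸ dvd_pow_self 2 hk0)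
      exact hcon ((u ^ (orderOf u / 2) : U) : L) (Subtype.prop _)
        (by simpa using pow_mem hu _) (by rw [orderOf_coe, orderOf_coe, h2])
    refine hL (Cor.isSolvable_of_isCyclic_sylow_two U ?_)
    by_cases h0 : ∀ u : U, u = 1
    · exact ⟨1, fun u => ⟨0, by simp [h0 u]⟩⟩
    push Not at h0
    obtain ⟨u, hu⟩ := h0
    refine ⟨u, fun w => ?_⟩
    by_cases hw : w = 1
    · exact ⟨0, by simp [hw]⟩
    · have := h1 (u * w) (key _ (hU (mem_map_of_mem _ u.2)) _ (hU (mem_map_of_mem _ w.2))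
        (fun h => hu (h1 u h)) fun h => hw (h1 w h))
      exact ⟨-1, by simp [eq_inv_of_mul_eq_one_right this]⟩
  obtain ⟨i, hi1, hi2, hi3⟩ := inv M T1 hM (le_sup_left.trans hS)
  obtain ⟨j, hj1, hj2, hj3⟩ := inv M' T2 hM' (le_sup_right.trans hS)
  have := eq_of_zpowers hi2 hj2 hi3 hj3
  subst this
  have : i ∈ M ⊓ M' := ⟨hi1, hj1⟩
  rw [hi, mem_bot] at this
  rw [this, orderOf_one] at hi3
  omega

theorem exists_orderOf_of_map {K : Type*} [Group K] [Finite K] (f : K →* G) {g : K} {n : ℕ}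
    (h : orderOf (f g) = n) : ∃ x : K, orderOf x = n :=
  ⟨g ^ (orderOf g / n), orderOf_pow_orderOf_div (orderOf_pos g).ne' (h ▸ orderOf_map_dvd f g)⟩

/-- If no two commuting non-solvable factors exist and there is no solvable normal subgroup,
the group is almost simple. -/
theorem almost_simple [Finite G] [Nontrivial G]
    (h0 : ∀ N : Subgroup G, IsMinNormal N → ¬ Group.IsSolvable N)
    (h : ∀ N : Subgroup G, IsMinNormal N → ∀ M M' : Subgroup G, M ≤ N → M ⊓ M' = ⊥ →
      (∀ a ∈ M, ∀ b ∈ M', a * b = b * a) → ¬ Group.IsSolvable M → ¬ Group.IsSolvable M' →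
      (∀ p : ℕ, p.Prime → p ∣ Nat.card N → p ∣ Nat.card M) → False) :
    ∃ S : Subgroup G, S.Normal ∧ IsSimpleGroup S ∧ ¬ IsMulCommutative S ∧
      centralizer (S : Set G) = ⊥ := by
  obtain ⟨N, hN⟩ := exists_isMinNormal G
  have := hN.normal
  have hab : ¬ IsMulCommutative N := fun hc =>
    h0 N hN (Group.isSolvable_of_comm fun a b => mul_comm' a b)
  refine ⟨N, hN.normal, ?_, hab, ?_⟩
  · by_contra hn
    obtain ⟨M, M', h1, -, h3, h4, h5, h6, h7⟩ := split hN (h0 N hN) hn
    exact h N hN M M' h1 h3 h4 h5 h6 fun p hp hd => (h7 p hp hd).1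
  · by_contra hn
    obtain ⟨N', hN', hle⟩ := exists_isMinNormal_le _ hn
    refine h N hN N N' le_rfl (hN.inf_eq_bot_of_ne hN' ?_) (fun a ha b hb => hle hb a ha)
      (h0 N hN) (h0 N' hN') fun _ _ hd => hd
    rintro rfl
    exact hab ⟨⟨fun a b => Subtype.ext (hle b.2 a a.2)⟩⟩

theorem s4008 (hco : CO.{u}) [Finite G] (hns : ¬ Group.IsSolvable G)
    (r : ℕ) (hr : r.Prime) (hodd : r ≠ 2) (hrG : r ∣ Nat.card G) (hno : ∀ g : G, orderOf g ≠ 2 * r)
    (R : Subgroup G) [R.Normal] (hRs : Group.IsSolvable R)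
    (hRmax : ∀ N : Subgroup G, N.Normal → Group.IsSolvable N → N ≤ R) :
    ∃ S : Subgroup (G ⧸ R), S.Normal ∧ IsSimpleGroup S ∧ ¬ IsMulCommutative S ∧
      centralizer (S : Set (G ⧸ R)) = ⊥ := by
  have hfr := Fact.mk hr
  have : Nontrivial (G ⧸ R) := by
    by_contra h1
    rw [not_nontrivial_iff_subsingleton] at h1
    exact hns (Group.isSolvable_of_ker_le_range R.subtype (QuotientGroup.mk' R) (by simp))
  have h0 : ∀ N : Subgroup (G ⧸ R), IsMinNormal N → ¬ Group.IsSolvable N := fun N hN hs => by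
    have := hN.normal
    have h1 : Group.IsSolvable (N.comap (QuotientGroup.mk' R)) := by
      have hle : R ≤ N.comap (QuotientGroup.mk' R) := fun x hx => by
        rw [mem_comap, QuotientGroup.mk'_apply, (QuotientGroup.eq_one_iff x).mpr hx]
        exact N.one_mem
      refine Group.isSolvable_of_ker_le_range (inclusion hle)
        ((QuotientGroup.mk' R).subgroupComap N) fun x hx => ?_
      exact ⟨⟨x, (QuotientGroup.eq_one_iff (x : G)).mp (congrArg Subtype.val hx)⟩, rfl⟩
    have h2 := hRmax _ inferInstance h1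
    refine hN.ne_bot (eq_bot_iff.mpr fun x hx => ?_)
    obtain ⟨g, rfl⟩ := QuotientGroup.mk'_surjective R x
    exact mem_bot.mpr ((QuotientGroup.eq_one_iff g).mpr (h2 hx))
  refine almost_simple h0 fun N hN M M' h1 h3 h4 h5 h6 h7 => ?_
  have := hN.normal
  by_cases hq : r ∣ Nat.card (G ⧸ R)
  · have hno' : ∀ g : G ⧸ R, orderOf g ≠ 2 * r := fun g hg => by
      obtain ⟨g, rfl⟩ := QuotientGroup.mk'_surjective R g
      obtain ⟨x, hx⟩ := exists_orderOf_of_map _ hg
      exact hno x hx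
    by_cases hrN : r ∣ Nat.card N
    · obtain ⟨a, ha, hao⟩ := exists_orderOf_mem hr (h7 r hr hrN)
      obtain ⟨t, ht, hto⟩ := exists_invol h6
      exact hno' _ (orderOf_mul_primes Nat.prime_two hr hodd.symm hto hao (h4 a ha t ht).symm)
    · obtain ⟨a, hao⟩ := exists_prime_orderOf_dvd_card' r hq
      obtain ⟨t, -, hto, hc⟩ := exists_invol_comm hco (h0 N hN) hr hao hrN
      exact hno' _ (orderOf_mul_primes Nat.prime_two hr hodd.symm hto hao hc)
  · have hrR : r ∣ Nat.card R := by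
      rw [card_eq_card_quotient_mul_card_subgroup R] at hrG
      exact (hr.dvd_mul.mp hrG).resolve_left hq
    obtain ⟨P⟩ : Nonempty (Sylow r R) := inferInstance
    set P' : Subgroup G := (P : Subgroup R).map R.subtype with hP'
    have hfr : normalizer (P' : Set G) ⊔ R = ⊤ := Sylow.normalizer_sup_eq_top P
    have hP0 : P' ≠ ⊥ := fun e => by
      have h8 := P.dvd_card_of_dvd_card hrR
      rw [(map_eq_bot_iff_of_injective _ R.subtype_injective).mp e, card_bot] at h8
      exact hr.one_lt.ne' (Nat.dvd_one.mp h8)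
    refine no_two_factors ((QuotientGroup.mk' R).comp (normalizer (P' : Set G)).subtype) ?_ ?_ h3
      h4 h5 h6
    · intro x
      obtain ⟨g, rfl⟩ := QuotientGroup.mk'_surjective R x
      have : g ∈ (normalizer (P' : Set G) ⊔ R : Subgroup G) := hfr ▸ mem_top g
      rw [← SetLike.mem_coe, mul_normal] at this
      obtain ⟨n, hn, s, hs, rfl⟩ := this
      exact ⟨⟨n, hn⟩, by simp [(QuotientGroup.eq_one_iff s).mpr hs]⟩
    · intro z e hz he hc
      by_contra hne
      have fpf : ∀ t : G, orderOf t = 2 → ∀ k ∈ P', t * k = k * t → k = 1 := fun t ht k hk hc => by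
        by_contra hk1
        obtain ⟨j, hj⟩ := IsPGroup.iff_orderOf.mp (P.isPGroup'.map R.subtype) ⟨k, hk⟩
        rw [orderOf_mk] at hj
        have hj0 : j ≠ 0 := by
          rintro rfl
          exact hk1 (orderOf_eq_one_iff.mp hj)
        exact hno _ (orderOf_mul_primes Nat.prime_two hr hodd.symm ht
          (orderOf_pow_orderOf_div (orderOf_pos k).ne' (hj ▸ dvd_pow_self r hj0))
          (Commute.pow_right hc _))
      have sq : ∀ t : normalizer (P' : Set G), orderOf t = 2 → t * t = 1 := fun t ht => by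
        rw [← pow_two, ← ht, pow_orderOf_eq_one]
      have := Fact.mk Nat.prime_two
      have hez : orderOf (e * z) = 2 := orderOf_eq_prime
        (by rw [pow_two, mul_assoc, ← mul_assoc z, ← hc, mul_assoc, sq z hz, mul_one, sq e he])
        fun h => hne (by rw [← mul_left_inj z, h, sq z hz])
      exact hP0 (Local.eq_bot_of_four_fpf (u := e) (v := z) (congrArg Subtype.val (sq e he))
        (congrArg Subtype.val (sq z hz)) e.2 z.2 (fpf _ (by rw [orderOf_coe, he]))
        (fpf _ (by rw [orderOf_coe, hz])) (fpf (e * z : normalizer (P' : Set G))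
          (by rw [orderOf_coe, hez])))

/-- Same prime graph. -/
def SP (G H : Type*) [Group G] [Group H] : Prop :=
  (∀ p : ℕ, p.Prime → (p ∣ Nat.card G ↔ p ∣ Nat.card H)) ∧
    (∀ p q : ℕ, p.Prime → q.Prime → p ≠ q →
      ((∃ g : G, orderOf g = p * q) ↔ (∃ g : H, orderOf g = p * q)))

theorem SP_eq_1' : type_of% @SP.eq_1 := @SP.eq_1

theorem SP.trans {A B C : Type*} [Group A] [Group B] [Group C] (h : SP A B) (h' : SP B C) :
    SP A C :=
  ⟨fun p hp => (h.1 p hp).trans (h'.1 p hp),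
    fun p q hp hq hpq => (h.2 p q hp hq hpq).trans (h'.2 p q hp hq hpq)⟩

theorem SP.of_equiv {A B : Type*} [Group A] [Group B] (e : A ≃* B) : SP A B :=
  ⟨fun p _ => by rw [Nat.card_congr e.toEquiv], fun p q _ _ _ =>
    ⟨fun ⟨g, hg⟩ => ⟨e g, by rw [e.orderOf_eq, hg]⟩,
      fun ⟨g, hg⟩ => ⟨e.symm g, by rw [e.symm.orderOf_eq, hg]⟩⟩⟩

/-- The groups with the prime graph of `G` have bounded order. -/
def Bd (G : Type*) [Group G] : Prop :=
  ∃ n : ℕ, ∀ (H : Type) [Group H] [Finite H], SP G H → Nat.card H ≤ n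

theorem Bd_eq_1' : type_of% @Bd.eq_1 := @Bd.eq_1

theorem Bd.bound (h : Bd G) :
    ∃ n : ℕ, ∀ (H : Type u) [Group H] [Finite H], SP G H → Nat.card H ≤ n := by
  obtain ⟨n, hn⟩ := h
  refine ⟨n, fun H _ _ hH => ?_⟩
  have e : Shrink.{0} H ≃* H := Shrink.mulEquiv
  have : Finite (Shrink.{0} H) := Finite.of_equiv _ e.toEquiv.symm
  rw [← Nat.card_congr e.toEquiv]
  exact hn _ (hH.trans (SP.of_equiv e.symm))

/-- A group with a large subgroup-like cover has the same prime graph. -/
theorem SP.of_pi {m : ℕ} [Finite G] (H : Subgroup (Fin (m + 1) → G))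
    (hd : ∀ g : G, (fun _ => g) ∈ H)
    (h : ∀ x ∈ H, ∀ i j, ∀ p q : ℕ, p.Prime → q.Prime → p ≠ q → orderOf (x i) = p →
      orderOf (x j) = q → ∃ g : G, orderOf g = p * q) : SP G H := by
  have hdo : ∀ g : G, orderOf (⟨fun _ => g, hd g⟩ : H) = orderOf g := fun g => by
    rw [orderOf_mk, orderOf_eq_orderOf_iff]
    intro n
    exact ⟨fun h => congrFun h 0, fun h => funext fun _ => h⟩
  have hpw : ∀ (x : H) (n : ℕ), orderOf x ∣ n ↔ ∀ i, orderOf ((x : Fin (m + 1) → G) i) ∣ n :=
    fun x n => by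
      rw [← orderOf_coe, orderOf_dvd_iff_pow_eq_one, funext_iff]
      exact forall_congr' fun i => by rw [orderOf_dvd_iff_pow_eq_one]; rfl
  refine ⟨fun p hp => ⟨fun hg => ?_, fun hg => ?_⟩, fun p q hp hq hpq =>
    ⟨fun ⟨g, hg⟩ => ⟨_, (hdo g).trans hg⟩, fun ⟨x, hx⟩ => ?_⟩⟩
  · have := Fact.mk hp
    obtain ⟨g, hg⟩ := exists_prime_orderOf_dvd_card' p hg
    rw [← hg, ← hdo g]
    exact orderOf_dvd_natCard _
  · have := Fact.mk hp
    obtain ⟨x, hx⟩ := exists_prime_orderOf_dvd_card' p hg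
    rw [← hx, hpw]
    exact fun i => orderOf_dvd_natCard _
  · have h1 := (hpw x (p * q)).mp hx.dvd
    have h2 : ¬ ∀ i, orderOf ((x : Fin (m + 1) → G) i) ∣ p := fun h2 => by
      have := (hpw x p).mpr h2
      rw [hx] at this
      exact hq.one_lt.ne' (Nat.dvd_one.mp (Nat.dvd_of_mul_dvd_mul_left hp.pos (by simpa using this)))
    have h3 : ¬ ∀ i, orderOf ((x : Fin (m + 1) → G) i) ∣ q := fun h2 => by
      have := (hpw x q).mpr h2
      rw [hx] at this
      exact hp.one_lt.ne' (Nat.dvd_one.mp (Nat.dvd_of_mul_dvd_mul_right hq.pos (by simpa using this)))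
    push Not at h2 h3
    obtain ⟨j, hj⟩ := h2
    obtain ⟨i, hi⟩ := h3
    have cs : ∀ n : ℕ, n ∣ p * q → n = 1 ∨ n = p ∨ n = q ∨ n = p * q := fun n hn => by
      obtain ⟨a, b, ha, hb, rfl⟩ := exists_dvd_and_dvd_of_dvd_mul hn
      rcases (Nat.dvd_prime hp).mp ha with rfl | rfl <;>
        rcases (Nat.dvd_prime hq).mp hb with rfl | rfl <;> simp
    rcases cs _ (h1 i) with e | e | e | e
    · exact absurd (by rw [e]; exact one_dvd q) hi
    · rcases cs _ (h1 j) with e' | e' | e' | e'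
      · exact absurd (by rw [e']; exact one_dvd p) hj
      · exact absurd e'.dvd hj
      · exact h x x.2 i j p q hp hq hpq e e'
      · exact ⟨_, e'⟩
    · exact absurd e.dvd hi
    · exact ⟨_, e⟩

/-- The fibre power over `A`: tuples congruent modulo a normal subgroup. -/
theorem Bd.fibre [Finite G] (h : Bd G) {N : Subgroup G} [N.Normal] (h0 : N ≠ ⊥)
    (hN : ∀ a b : G, a⁻¹ * b ∈ N → ∀ p q : ℕ, p.Prime → q.Prime → p ≠ q → orderOf a = p →
      orderOf b = q → ∃ g : G, orderOf g = p * q) : False := by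
  obtain ⟨n, hn⟩ := h.bound
  let H : Subgroup (Fin (n + 1) → G) :=
    { carrier := {x | ∀ i j, (x i : G ⧸ N) = x j}
      mul_mem' := fun {a b} ha hb i j => by
        simp only [Pi.mul_apply, QuotientGroup.mk_mul, ha i j, hb i j]
      one_mem' := fun _ _ => rfl
      inv_mem' := fun {a} ha i j => by simp only [Pi.inv_apply, QuotientGroup.mk_inv, ha i j] }
  have h1 := hn H (SP.of_pi H (fun g _ _ => rfl) fun x hx i j =>
    hN _ _ (QuotientGroup.eq.mp (hx i j)))
  have h2 : Nat.card (Fin (n + 1) → N) ≤ Nat.card H :=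
    Nat.card_le_card_of_injective (fun x => ⟨fun i => x i, fun i j => by
      rw [(QuotientGroup.eq_one_iff _).mpr (x i).2, (QuotientGroup.eq_one_iff _).mpr (x j).2]⟩)
      fun x y e => funext fun i => Subtype.ext (congrFun (congrArg Subtype.val e) i)
  rw [Nat.card_fun, Nat.card_fin] at h2
  have h3 : 1 < Nat.card N := (one_lt_card_iff_ne_bot N).mpr h0
  have h4 := Nat.lt_pow_self (n := n + 1) h3
  omega

theorem mem_of_coprime {N : Subgroup G} [N.Normal] {a b : G} (h : a⁻¹ * b ∈ N) {p q : ℕ}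
    (hp : p.Prime) (hq : q.Prime) (hpq : p ≠ q) (ha : orderOf a = p) (hb : orderOf b = q) :
    a ∈ N ∧ b ∈ N := by
  have e : (a : G ⧸ N) = b := QuotientGroup.eq.mpr h
  have h1 : orderOf (a : G ⧸ N) ∣ p := ha ▸ orderOf_map_dvd (QuotientGroup.mk' N) a
  have h2 : orderOf (b : G ⧸ N) ∣ q := hb ▸ orderOf_map_dvd (QuotientGroup.mk' N) b
  rw [← e] at h2
  have h3 := Nat.eq_one_of_dvd_coprimes ((Nat.coprime_primes hp hq).mpr hpq) h1 h2
  rw [orderOf_eq_one_iff] at h3
  exact ⟨(QuotientGroup.eq_one_iff a).mp h3, (QuotientGroup.eq_one_iff b).mp (e ▸ h3)⟩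

theorem Bd.almost (hco : CO.{u}) [Finite G] [Nontrivial G] (h : Bd G) :
    ∃ S : Subgroup G, S.Normal ∧ IsSimpleGroup S ∧ ¬ IsMulCommutative S ∧
      centralizer (S : Set G) = ⊥ := by
  have h0 : ∀ N : Subgroup G, IsMinNormal N → ¬ Group.IsSolvable N := fun N hN hs => by
    have := hN.normal
    have := hN.isMulCommutative
    refine h.fibre hN.ne_bot fun a b hab p q hp hq hpq ha hb => ?_
    obtain ⟨h1, h2⟩ := mem_of_coprime hab hp hq hpq ha hb
    exact ⟨_, orderOf_mul_primes hp hq hpq ha hb (setLike_mul_comm h1 h2)⟩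
  have h1 : ∀ N : Subgroup G, IsMinNormal N → IsSimpleGroup N := fun N hN => by
    by_contra hn
    have := hN.normal
    obtain ⟨M, M', -, -, -, h4, -, -, h7⟩ := split hN (h0 N hN) hn
    refine h.fibre hN.ne_bot fun a b hab p q hp hq hpq ha hb => ?_
    obtain ⟨h1, h2⟩ := mem_of_coprime hab hp hq hpq ha hb
    obtain ⟨c, hc, hco⟩ := exists_orderOf_mem hp (h7 p hp (ha ▸ orderOf_dvd_natCard N h1)).1
    obtain ⟨d, hd, hdo⟩ := exists_orderOf_mem hq (h7 q hq (hb ▸ orderOf_dvd_natCard N h2)).2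
    exact ⟨_, orderOf_mul_primes hp hq hpq hco hdo (h4 c hc d hd)⟩
  obtain ⟨N, hN⟩ := exists_isMinNormal G
  have := hN.normal
  have hab : ¬ IsMulCommutative N := fun hc =>
    h0 N hN (Group.isSolvable_of_comm fun a b => mul_comm' a b)
  refine ⟨N, hN.normal, h1 N hN, hab, ?_⟩
  by_contra hn
  obtain ⟨N', hN', hle⟩ := exists_isMinNormal_le _ hn
  obtain ⟨t, ht, hto⟩ := exists_invol (h0 N' hN')
  have adj : ∀ r : ℕ, r.Prime → r ≠ 2 → r ∣ Nat.card G → ∃ g : G, orderOf g = 2 * r := by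
    intro r hr h2 hG
    by_cases hrN : r ∣ Nat.card N
    · obtain ⟨a, ha, hao⟩ := exists_orderOf_mem hr hrN
      exact ⟨_, orderOf_mul_primes Nat.prime_two hr h2.symm hto hao (hle ht a ha).symm⟩
    · have := Fact.mk hr
      obtain ⟨a, hao⟩ := exists_prime_orderOf_dvd_card' r hG
      obtain ⟨s, -, hso, hc⟩ := exists_invol_comm hco (h0 N hN) hr hao hrN
      exact ⟨_, orderOf_mul_primes Nat.prime_two hr h2.symm hso hao hc⟩
  have h2G : 2 ∣ Nat.card G := hto ▸ orderOf_dvd_natCard t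
  have hc : ∀ p : ℕ, p.Prime → (p ∣ Nat.card G ↔ p ∣ Nat.card (G × Multiplicative (ZMod 2))) := by
    intro p hp
    rw [Nat.card_prod, Nat.card_congr Multiplicative.toAdd, Nat.card_zmod]
    refine ⟨fun h => h.mul_right _, fun h => (hp.dvd_mul.mp h).elim id fun h => h.trans h2G⟩
  have sp : SP G (G × Multiplicative (ZMod 2)) := by
    refine ⟨hc, fun p q hp hq hpq => ⟨fun ⟨g, hg⟩ => ⟨(g, 1), by simp [Prod.orderOf_mk, hg]⟩,
      fun ⟨⟨g, e⟩, hg⟩ => ?_⟩⟩
    have hd := orderOf_dvd_natCard (g, e)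
    rw [hg] at hd
    by_cases hp2 : p = 2
    · subst hp2
      exact adj q hq hpq.symm ((hc q hq).mpr ((dvd_mul_left q 2).trans hd))
    by_cases hq2 : q = 2
    · subst hq2
      rw [mul_comm]
      exact adj p hp hpq ((hc p hp).mpr ((dvd_mul_right p 2).trans hd))
    rw [Prod.orderOf_mk] at hg
    have h3 : orderOf e ∣ 2 := by
      have := orderOf_dvd_natCard e
      rwa [Nat.card_congr Multiplicative.toAdd, Nat.card_zmod] at this
    rcases (Nat.dvd_prime Nat.prime_two).mp h3 with e1 | e1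
    · exact ⟨g, by simpa [e1] using hg⟩
    · have h4 : 2 ∣ p * q := by
        rw [← hg, e1]; exact (dvd_lcm_right _ _)
      rcases Nat.prime_two.dvd_mul.mp h4 with h5 | h5
      · exact absurd ((Nat.prime_dvd_prime_iff_eq Nat.prime_two hp).mp h5).symm hp2
      · exact absurd ((Nat.prime_dvd_prime_iff_eq Nat.prime_two hq).mp h5).symm hq2
  have hb : Bd (G × Multiplicative (ZMod 2)) := by
    obtain ⟨n, hn⟩ := h
    exact ⟨n, fun H _ _ hH => hn H (sp.trans hH)⟩
  refine hb.fibre (N := (MonoidHom.fst G (Multiplicative (ZMod 2))).ker) (fun e => ?_)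
    fun a b hab p q hp hq hpq ha hb => ?_
  · have : ((1 : G), Multiplicative.ofAdd (1 : ZMod 2)) ∈
        (MonoidHom.fst G (Multiplicative (ZMod 2))).ker := rfl
    rw [e, mem_bot] at this
    exact (by decide : Multiplicative.ofAdd (1 : ZMod 2) ≠ 1) (congrArg Prod.snd this)
  · obtain ⟨h1, h2⟩ := mem_of_coprime hab hp hq hpq ha hb
    have two : ∀ x ∈ (MonoidHom.fst G (Multiplicative (ZMod 2))).ker, orderOf x ∣ 2 := by
      rintro ⟨g, e⟩ hx
      obtain rfl : g = 1 := hx
      have := orderOf_dvd_natCard e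
      rw [Nat.card_congr Multiplicative.toAdd, Nat.card_zmod] at this
      simpa [Prod.orderOf_mk] using this
    exact absurd (((Nat.prime_dvd_prime_iff_eq hp Nat.prime_two).mp (ha ▸ two a h1)).trans
      ((Nat.prime_dvd_prime_iff_eq hq Nat.prime_two).mp (hb ▸ two b h2)).symm) hpq

theorem s3526 (hco : CO.{u}) (hco0 : CO.{0}) [Finite G] [Nontrivial G] (h : Bd G) :
    (∃ N : Subgroup G, N.Normal ∧ IsSimpleGroup N ∧ ¬ IsMulCommutative N ∧
      centralizer (N : Set G) = ⊥) ∧
    ∀ (H : Type) [Group H] [Finite H], SP G H → ∃ N : Subgroup H, N.Normal ∧ IsSimpleGroup N ∧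
      ¬ IsMulCommutative N ∧ centralizer (N : Set H) = ⊥ := by
  refine ⟨h.almost hco, fun H _ _ hH => ?_⟩
  have : Nontrivial H := by
    obtain ⟨p, hp, hd⟩ := Nat.exists_prime_and_dvd (Finite.one_lt_card (α := G)).ne'
    rw [← Finite.one_lt_card_iff_nontrivial]
    exact lt_of_lt_of_le hp.one_lt (Nat.le_of_dvd Nat.card_pos ((hH.1 p hp).mp hd))
  obtain ⟨n, hn⟩ := h
  exact Bd.almost hco0 ⟨n, fun K _ _ hK => hn K (hH.trans hK)⟩

/-- The statement in one universe gives it in the lowest one. -/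
theorem CO.zero (hco : CO.{u}) : CO.{0} := by
  intro Γ _ _ G A hn hc h
  let e : ULift.{u} Γ ≃* Γ := MulEquiv.ulift
  have cc : ∀ K : Subgroup Γ, Nat.card (K.comap e.toMonoidHom) = Nat.card K := fun K =>
    Nat.card_congr (e.toEquiv.subtypeEquiv fun _ => Iff.rfl)
  have hs := hco (ULift.{u} Γ) (G.comap e.toMonoidHom) (A.comap e.toMonoidHom)
    (fun a ha => by
      rw [mem_normalizer_iff]
      intro x
      simpa [mem_comap] using (mem_normalizer_iff.mp (hn ha)) (e x))
    (by rwa [cc, cc])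
    fun x hx hxc hx2 => e.injective (by
      rw [map_one]
      refine h _ hx (fun a ha => ?_) (by rw [← map_mul, hx2, map_one])
      obtain ⟨b, rfl⟩ := e.surjective a
      rw [← map_mul, ← map_mul, hxc b ha])
  exact Group.isSolvable_of_surjective (f := e.toMonoidHom.subgroupComap G)
    (e.toMonoidHom.subgroupComap_surjective_of_surjective G e.surjective)

end Cfsg.Lib.P2
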